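import Groth.Agent.SibLib.Compat

/-! Siblings: functors agreeing on the heart agree on objects. -/

set_option backward.isDefEq.respectTransparency false

universe w v u v' u'

open CategoryTheory CategoryTheory.Limits CategoryTheory.Pretriangulated CategoryTheory.Triangulated

namespace Groth.Agent.SibLib

variable {A : Type u} [Category.{v} A] [Abelian A] [HasDerivedCategory.{w} A]

local notation "B" => DerivedCategory.Bounded A

/-- `u` detects maps to objects of degree `b`. -/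
def IsTop {b : ℤ} {Z : A} {K : DerivedCategory.Bounded A} (u : (dg b).obj Z ⟶ K) : Prop :=
  ∀ (V : A) (h : K ⟶ (dg b).obj V), u ≫ h = 0 → h = 0

lemma IsTop.cone_isLE {b : ℤ} {Z : A} {K : B} {u : (dg b).obj Z ⟶ K} (hu : IsTop u)
    [(tb A).IsLE K b] {C : B} {q : K ⟶ C} {r : C ⟶ ((dg b).obj Z)⟦(1 : ℤ)⟧}
    (hT : Triangle.mk u q r ∈ distTriang B) : (tb A).IsLE C (b - 1) := by
  have : (tb A).IsLE ((dg b).obj Z) (b + 1) := (tb A).isLE_of_le _ b (b + 1) (by lia)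
  have : (tb A).IsLE C b := isLE_third _ hT b this (by assumption)
  refine isLE_pred C b fun V h => ?_
  have hqh : q ≫ h = 0 := hu V _ (by
    have : u ≫ q = 0 := comp_distTriang_mor_zero₁₂ _ hT
    rw [reassoc_of% this, zero_comp])
  obtain ⟨c, hc⟩ := Triangle.yoneda_exact₃ _ hT h hqh
  have hc0 : c = 0 := (tb A).zero_of_isLE_of_isGE c (b - 1) b (by lia)
    (isLE_shift_one ((dg b).obj Z) b (b - 1) (by lia)) inferInstance
  rw [hc, hc0, comp_zero]

lemma cone_isGE {b a n : ℤ} {Z : A} {K : B} (u : (dg b).obj Z ⟶ K) [(tb A).IsGE K a]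
    {C : B} {q : K ⟶ C} {r : C ⟶ ((dg b).obj Z)⟦(1 : ℤ)⟧}
    (hT : Triangle.mk u q r ∈ distTriang B) (h₁ : n ≤ a) (h₂ : n < b) : (tb A).IsGE C n :=
  have : (tb A).IsGE ((dg b).obj Z) (n + 1) := (tb A).isGE_of_ge _ (n + 1) b (by lia)
  isGE_third _ hT n this ((tb A).isGE_of_ge K n a h₁)

/-- `(dg b Z)⟦1⟧` is in degree `b - 1`. -/
noncomputable def dgShiftIso (b : ℤ) (Z : A) :
    (dg (b - 1)).obj Z ≅ ((dg b).obj Z)⟦(1 : ℤ)⟧ :=
  (shiftFunctorAdd' B (-b) 1 (-(b - 1)) (by lia)).app ((DEquiv.singleB A).obj Z)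

variable {D : Type u'} [Category.{v'} D] [Preadditive D] [HasZeroObject D] [HasShift D ℤ]
  [∀ n : ℤ, (shiftFunctor D n).Additive] [Pretriangulated D]
  {F F' : DerivedCategory.Bounded A ⥤ D} [F.CommShift ℤ] [F'.CommShift ℤ]

lemma comm_dgShiftIso (α : DEquiv.singleB A ⋙ F ≅ DEquiv.singleB A ⋙ F') (b : ℤ) (Z : A) :
    Comm F F' (αd α (b - 1) Z) (sh (1 : ℤ) (αd α b Z)) (dgShiftIso b Z).hom :=
  comm_shiftAdd (-b) 1 (-(b - 1)) (by lia) (α₀ α Z)

variable [F.IsTriangulated] [F'.IsTriangulated]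

/-- Fill in a comparison in the middle of a triangle. -/
lemma exists_fill {T₁ T₂ T₃ : B} {u : T₁ ⟶ T₂} {q : T₂ ⟶ T₃} {r : T₃ ⟶ T₁⟦(1 : ℤ)⟧}
    (hT : Triangle.mk u q r ∈ distTriang B) (a : F.obj T₁ ≅ F'.obj T₁)
    (c : F.obj T₃ ≅ F'.obj T₃) (h : Comm F F' c (sh (1 : ℤ) a) r) :
    ∃ ψ : F.obj T₂ ≅ F'.obj T₂, Comm F F' a ψ u ∧ Comm F F' ψ c q := by
  have h' : (F.map r ≫ (F.commShiftIso (1 : ℤ)).hom.app T₁) ≫ a.hom⟦(1 : ℤ)⟧' =
      c.hom ≫ F'.map r ≫ (F'.commShiftIso (1 : ℤ)).hom.app T₁ := by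
    unfold Comm at h
    rw [sh_hom] at h
    rw [← cancel_mono ((F'.commShiftIso (1 : ℤ)).inv.app T₁)]
    simp only [Category.assoc, Iso.hom_inv_id_app]
    erw [Category.comp_id]
    exact h
  obtain ⟨(b : F.obj T₂ ⟶ F'.obj T₂), hb₁, hb₂⟩ :=
    complete_distinguished_triangle_morphism₂ _ _
      (F.map_distinguished _ hT) (F'.map_distinguished _ hT) a.hom c.hom h'
  let φ : F.mapTriangle.obj (Triangle.mk u q r) ⟶ F'.mapTriangle.obj (Triangle.mk u q r) :=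
    { hom₁ := a.hom, hom₂ := b, hom₃ := c.hom, comm₁ := hb₁, comm₂ := hb₂, comm₃ := h' }
  have : IsIso b :=
    isIso₂_of_isIso₁₃ φ (F.map_distinguished _ hT) (F'.map_distinguished _ hT)
      (inferInstanceAs (IsIso a.hom)) (inferInstanceAs (IsIso c.hom))
  exact ⟨asIso b, hb₁, hb₂⟩

variable (α : DEquiv.singleB A ⋙ F ≅ DEquiv.singleB A ⋙ F')

theorem exists_comparison (hNV : NegVanish (A := A) F) (K : B) (a b : ℤ) (hab : a ≤ b)
    [(tb A).IsGE K a] [(tb A).IsLE K b] :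
    ∃ (Z : A) (u : (dg b).obj Z ⟶ K) (ψ : F.obj K ≅ F'.obj K),
      IsTop u ∧ Comm F F' (αd α b Z) ψ u := by
  obtain ⟨n, hn⟩ := Int.eq_ofNat_of_zero_le (sub_nonneg.2 hab)
  induction n generalizing b K with
  | zero =>
    obtain rfl : a = b := by lia
    obtain ⟨Z, ⟨e⟩⟩ := exists_iso_dg K a
    refine ⟨Z, e.inv, F.mapIso e ≪≫ αd α a Z ≪≫ (F'.mapIso e).symm, fun V h hh => ?_, ?_⟩
    · exact (cancel_epi e.inv).1 (by rw [hh, comp_zero])
    · simp [Comm, ← F.map_comp_assoc]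
  | succ n ih =>
    obtain ⟨Z, u, hu⟩ := exists_top K b
    have hu : IsTop u := hu
    obtain ⟨C, q, r, hT⟩ := distinguished_cocone_triangle u
    have : (tb A).IsLE C (b - 1) := hu.cone_isLE hT
    have : (tb A).IsGE C a := cone_isGE (a := a) u hT le_rfl (by lia)
    obtain ⟨Z', u', ψC, hu', hψC⟩ := ih C (b - 1) (by lia) (by lia)
    have hg : Comm F F' ψC (αd α (b - 1) Z) (r ≫ (dgShiftIso b Z).inv) := by
      unfold Comm
      rw [← sub_eq_zero]
      obtain ⟨C', q', r', hT'⟩ := distinguished_cocone_triangle u'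
      obtain ⟨k, hk⟩ := Triangle.yoneda_exact₂ _ (F.map_distinguished _ hT')
        (F.map (r ≫ (dgShiftIso b Z).inv) ≫ (αd α (b - 1) Z).hom -
          ψC.hom ≫ F'.map (r ≫ (dgShiftIso b Z).inv)) (by
        change F.map u' ≫ (_ - _) = 0
        have h₁ := comm_dg α hNV (b - 1) (b - 1) Z' Z (u' ≫ r ≫ (dgShiftIso b Z).inv)
        unfold Comm at h₁ hψC
        rw [Preadditive.comp_sub, sub_eq_zero, ← F.map_comp_assoc, h₁, reassoc_of% hψC,
          ← F'.map_comp])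
      have : (tb A).IsLE C' (b - 1 - 1) := hu'.cone_isLE hT'
      obtain ⟨a', b', -, ha', -⟩ := exists_bounds C'
      rw [hk]
      erw [hom_zero α hNV C' a' (b - 1 - 1) (b - 1) (by lia) Z k, comp_zero]
    have hr : Comm F F' ψC (sh (1 : ℤ) (αd α b Z)) r := by
      have h := hg.comp (comm_dgShiftIso α b Z)
      rwa [Category.assoc, Iso.inv_hom_id, Category.comp_id] at h
    obtain ⟨ψ, hψ, -⟩ := exists_fill hT (αd α b Z) ψC hr
    exact ⟨Z, u, ψ, hu, hψ⟩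

theorem nonempty_iso (hNV : NegVanish (A := A) F)
    (α : DEquiv.singleB A ⋙ F ≅ DEquiv.singleB A ⋙ F') (K : B) :
    Nonempty (F.obj K ≅ F'.obj K) := by
  obtain ⟨a, b, hab, ha, hb⟩ := exists_bounds K
  obtain ⟨-, -, ψ, -, -⟩ := exists_comparison α hNV K a b hab
  exact ⟨ψ⟩

end Groth.Agent.SibLib
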