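import Groth.Agent.SibLib.Sibling

/-! A sibling of a fully faithful functor is fully faithful. -/

set_option backward.isDefEq.respectTransparency false

universe w v u v' u'

open CategoryTheory CategoryTheory.Limits CategoryTheory.Pretriangulated CategoryTheory.Triangulated

namespace Groth.Agent.SibLib

variable {C : Type u} [Category.{v} C] [Preadditive C] [HasZeroObject C] [HasShift C ℤ]
  [∀ n : ℤ, (shiftFunctor C n).Additive] [Pretriangulated C]
  {D : Type u'} [Category.{v'} D] [Preadditive D] [HasZeroObject D] [HasShift D ℤ]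
  [∀ n : ℤ, (shiftFunctor D n).Additive] [Pretriangulated D]

/-- `G` is bijective on maps `K ⟶ L`. -/
def Bij (G : C ⥤ D) (K L : C) : Prop :=
  Function.Bijective (G.map : (K ⟶ L) → (G.obj K ⟶ G.obj L))

variable {G : C ⥤ D}

lemma Bij.of_iso {K L K' L' : C} (h : Bij G K L) (e : K ≅ K') (e' : L ≅ L') : Bij G K' L' := by
  refine ⟨fun f g hfg => ?_, fun k => ?_⟩
  · have : e.hom ≫ f ≫ e'.inv = e.hom ≫ g ≫ e'.inv := h.1 (by simp [hfg])
    exact (cancel_mono e'.inv).1 ((cancel_epi e.hom).1 this)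
  · obtain ⟨f, hf⟩ := h.2 (G.map e.hom ≫ k ≫ G.map e'.inv)
    exact ⟨e.inv ≫ f ≫ e'.hom, by simp [hf, ← G.map_comp_assoc, ← G.map_comp]⟩

variable [G.CommShift ℤ]

lemma Bij.shift {K L : C} (h : Bij G K L) (m : ℤ) : Bij G (K⟦m⟧) (L⟦m⟧) := by
  refine ⟨fun f g hfg => ?_, fun k => ?_⟩
  · obtain ⟨f, rfl⟩ := (shiftFunctor C m).map_surjective f
    obtain ⟨g, rfl⟩ := (shiftFunctor C m).map_surjective g
    congr 1
    apply h.1
    apply (shiftFunctor D m).map_injective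
    rw [← cancel_epi ((G.commShiftIso m).hom.app K), ← G.commShiftIso_hom_naturality,
      ← G.commShiftIso_hom_naturality, hfg]
  · obtain ⟨k', hk'⟩ := (shiftFunctor D m).map_surjective
      ((G.commShiftIso m).inv.app K ≫ k ≫ (G.commShiftIso m).hom.app L)
    obtain ⟨f, rfl⟩ := h.2 k'
    refine ⟨f⟦m⟧', ?_⟩
    rw [← cancel_mono ((G.commShiftIso m).hom.app L), G.commShiftIso_hom_naturality, hk',
      Iso.hom_inv_id_app_assoc]

variable [G.IsTriangulated]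

lemma Bij.ext_target (K : C) (T : Triangle C) (hT : T ∈ distTriang C)
    (h₁ : Bij G K T.obj₁) (h₃ : Bij G K T.obj₃) (h₁' : Bij G K (T.obj₁⟦(1 : ℤ)⟧))
    (h₃' : Bij G K (T.obj₃⟦(-1 : ℤ)⟧)) : Bij G K T.obj₂ := by
  have z₁₂ : T.mor₁ ≫ T.mor₂ = 0 := comp_distTriang_mor_zero₁₂ _ hT
  have z₂₃ : T.mor₂ ≫ T.mor₃ = 0 := comp_distTriang_mor_zero₂₃ _ hT
  refine ⟨fun f g hfg => ?_, fun k => ?_⟩
  · rw [← sub_eq_zero]
    have hz : G.map (f - g) = 0 := by rw [G.map_sub, hfg, sub_self]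
    generalize f - g = d at hz ⊢
    obtain ⟨d₁, rfl⟩ := Triangle.coyoneda_exact₂ _ hT d (h₃.1 (by
      rw [G.map_comp, hz, zero_comp, G.map_zero]))
    obtain ⟨l, hl⟩ := Triangle.coyoneda_exact₂ _
      (G.map_distinguished _ (inv_rot_of_distTriang _ hT)) (G.map d₁)
      ((G.map_comp _ _).symm.trans hz)
    obtain ⟨d₀, rfl⟩ := h₃'.2 l
    have : d₁ = d₀ ≫ T.invRotate.mor₁ := h₁.1 (hl.trans (G.map_comp _ _).symm)
    have z : T.invRotate.mor₁ ≫ T.mor₁ = 0 :=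
      comp_distTriang_mor_zero₁₂ _ (inv_rot_of_distTriang _ hT)
    rw [this, Category.assoc, z, comp_zero]
  · obtain ⟨g₃, hg₃⟩ := h₃.2 (k ≫ G.map T.mor₂)
    obtain ⟨g₂, rfl⟩ := Triangle.coyoneda_exact₃ _ hT g₃ (h₁'.1 (by
      rw [G.map_comp, hg₃, Category.assoc, ← G.map_comp, z₂₃, G.map_zero, G.map_zero, comp_zero]))
    obtain ⟨l, hl⟩ := Triangle.coyoneda_exact₂ _ (G.map_distinguished _ hT) (k - G.map g₂) (by
      change (k - G.map g₂) ≫ G.map T.mor₂ = 0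
      rw [Preadditive.sub_comp, ← G.map_comp, hg₃, sub_self])
    obtain ⟨g₁, rfl⟩ := h₁.2 l
    refine ⟨g₁ ≫ T.mor₁ + g₂, ?_⟩
    rw [G.map_add, G.map_comp]
    erw [← hl, sub_add_cancel]

lemma Bij.ext_source (L : C) (T : Triangle C) (hT : T ∈ distTriang C)
    (h₁ : Bij G T.obj₁ L) (h₃ : Bij G T.obj₃ L) (h₁' : Bij G (T.obj₁⟦(1 : ℤ)⟧) L)
    (h₃' : Bij G (T.obj₃⟦(-1 : ℤ)⟧) L) : Bij G T.obj₂ L := by
  refine ⟨fun f g hfg => ?_, fun k => ?_⟩
  · rw [← sub_eq_zero]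
    have hz : G.map (f - g) = 0 := by rw [G.map_sub, hfg, sub_self]
    generalize f - g = d at hz ⊢
    obtain ⟨d₃, rfl⟩ := Triangle.yoneda_exact₂ _ hT d (h₁.1 (by
      rw [G.map_comp, hz, comp_zero, G.map_zero]))
    obtain ⟨l, hl⟩ := Triangle.yoneda_exact₂ _
      (G.map_distinguished _ (rot_of_distTriang _ hT)) (G.map d₃)
      ((G.map_comp _ _).symm.trans hz)
    obtain ⟨d₀, rfl⟩ := h₁'.2 l
    have : d₃ = T.mor₃ ≫ d₀ := h₃.1 (hl.trans (G.map_comp _ _).symm)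
    rw [this, ← Category.assoc, comp_distTriang_mor_zero₂₃ _ hT, zero_comp]
  · obtain ⟨g₁, hg₁⟩ := h₁.2 (G.map T.mor₁ ≫ k)
    have z : T.invRotate.mor₁ ≫ T.mor₁ = 0 :=
      comp_distTriang_mor_zero₁₂ _ (inv_rot_of_distTriang _ hT)
    obtain ⟨(g₂ : T.obj₂ ⟶ L), rfl⟩ :=
      Triangle.yoneda_exact₂ _ (inv_rot_of_distTriang _ hT) g₁ (h₃'.1 (by
      rw [G.map_comp, hg₁, ← G.map_comp_assoc, G.map_zero]
      erw [z]
      rw [G.map_zero, zero_comp]))
    obtain ⟨l, hl⟩ := Triangle.yoneda_exact₂ _ (G.map_distinguished _ hT) (k - G.map g₂) (by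
      change G.map T.mor₁ ≫ (k - G.map g₂) = 0
      rw [Preadditive.comp_sub, ← hg₁, sub_eq_zero]
      exact G.map_comp _ _)
    obtain ⟨g₃, rfl⟩ := h₃.2 l
    refine ⟨T.mor₂ ≫ g₃ + g₂, ?_⟩
    rw [G.map_add, G.map_comp]
    erw [← hl, sub_add_cancel]

end Groth.Agent.SibLib

namespace Groth.Agent.SibLib

section

variable {A : Type u} [Category.{v} A] [Abelian A] [HasDerivedCategory.{w} A]

local notation "B" => DerivedCategory.Bounded A

variable {D : Type u'} [Category.{v'} D] [Preadditive D] [HasZeroObject D] [HasShift D ℤ]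
  [∀ n : ℤ, (shiftFunctor D n).Additive] [Pretriangulated D]
  {F F' : DerivedCategory.Bounded A ⥤ D} [F.CommShift ℤ] [F'.CommShift ℤ]
  [F.IsTriangulated] [F'.IsTriangulated] [F.Full] [F.Faithful]

lemma bij_dg (α : DEquiv.singleB A ⋙ F ≅ DEquiv.singleB A ⋙ F') (j c : ℤ) (X Y : A) :
    Bij F' ((dg j).obj X) ((dg c).obj Y) := by
  have h := comm_dg α negVanish_of_fullyFaithful j c X Y
  refine ⟨fun f g hfg => F.map_injective ?_, fun k => ?_⟩
  · rw [← cancel_mono (αd α c Y).hom, h f, h g, hfg]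
  · obtain ⟨f, hf⟩ := F.map_surjective ((αd α j X).hom ≫ k ≫ (αd α c Y).inv)
    refine ⟨f, ?_⟩
    rw [← cancel_epi (αd α j X).hom, ← h f, hf]
    simp

lemma dgShift (j m : ℤ) (X : A) :
    Nonempty ((dg (j - m)).obj X ≅ ((dg j).obj X)⟦m⟧) :=
  ⟨(shiftFunctorAdd' B (-j) m (-(j - m)) (by lia)).app ((DEquiv.singleB A).obj X)⟩

theorem full_faithful (α : DEquiv.singleB A ⋙ F ≅ DEquiv.singleB A ⋙ F') :
    F'.Full ∧ F'.Faithful := by
  have hP : ∀ (L : B) (j : ℤ) (X : A), Bij F' ((dg j).obj X) L := fun L => by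
    obtain ⟨a, b, hab, ha, hb⟩ := exists_bounds L
    refine devissage (fun L => ∀ (j : ℤ) (X : A), Bij F' ((dg j).obj X) L) ?_ ?_ a b
      (fun c Y _ _ j X => bij_dg α j c X Y) L hab
    · intro K K' e hK j X
      exact (hK j X).of_iso (Iso.refl _) e
    · intro T hT h₁ h₃ j X
      refine Bij.ext_target _ T hT (h₁ j X) (h₃ j X) ?_ ?_
      · obtain ⟨e⟩ := dgShift (j + 1) 1 X
        have h := ((h₁ (j + 1) X).shift 1).of_iso e.symm (Iso.refl _)
        rwa [show j + 1 - 1 = j by lia] at h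
      · obtain ⟨e⟩ := dgShift (j - 1) (-1) X
        have h := ((h₃ (j - 1) X).shift (-1)).of_iso e.symm (Iso.refl _)
        rwa [show j - 1 - -1 = j by lia] at h
  have hQ : ∀ K L : B, Bij F' K L := fun K => by
    obtain ⟨a, b, hab, ha, hb⟩ := exists_bounds K
    refine devissage (fun K => ∀ L : B, Bij F' K L) ?_ ?_ a b
      (fun j X _ _ L => hP L j X) K hab
    · intro K K' e hK L
      exact (hK L).of_iso e (Iso.refl _)
    · intro T hT h₁ h₃ L
      refine Bij.ext_source L T hT (h₁ L) (h₃ L) ?_ ?_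
      · exact ((h₁ (L⟦(-1 : ℤ)⟧)).shift 1).of_iso (Iso.refl _)
          ((shiftFunctorCompIsoId B (-1 : ℤ) 1 (by lia)).app L)
      · exact ((h₃ (L⟦(1 : ℤ)⟧)).shift (-1)).of_iso (Iso.refl _)
          ((shiftFunctorCompIsoId B (1 : ℤ) (-1) (by lia)).app L)
  exact ⟨⟨fun {K L} => (hQ K L).2⟩, ⟨fun {K L} => (hQ K L).1⟩⟩

end

end Groth.Agent.SibLib
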