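import Groth.Agent.SibLib.Sibling

/-! Siblings of fully faithful functors are isomorphic when there are enough negative objects. -/

set_option backward.isDefEq.respectTransparency false

universe w v u v' u'

open CategoryTheory CategoryTheory.Limits CategoryTheory.Pretriangulated CategoryTheory.Triangulated

namespace Groth.Agent.SibLib

variable {A : Type u} [Category.{v} A] [Abelian A] [HasDerivedCategory.{w} A]

local notation "B" => DerivedCategory.Bounded A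

/-- objects of amplitude `≤ n` -/
def Amp (n : ℕ) (K : DerivedCategory.Bounded A) : Prop :=
  ∃ a b : ℤ, a ≤ b ∧ b ≤ a + n ∧ (tb A).IsGE K a ∧ (tb A).IsLE K b

lemma Amp.mono {n m : ℕ} (h : n ≤ m) {K : B} (hK : Amp n K) : Amp m K := by
  obtain ⟨a, b, h₁, h₂, h₃, h₄⟩ := hK
  exact ⟨a, b, h₁, by lia, h₃, h₄⟩

lemma exists_amp (K : B) : ∃ n, Amp n K := by
  obtain ⟨a, b, hab, ha, hb⟩ := exists_bounds K
  exact ⟨(b - a).toNat, a, b, hab, by lia, ha, hb⟩

lemma amp_dg_shift (n : ℕ) (b : ℤ) (N : A) : Amp n (((dg b).obj N)⟦(1 : ℤ)⟧) :=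
  ⟨b - 1, b - 1, le_rfl, by lia, isGE_shift_one _ b (b - 1) (by lia),
    isLE_shift_one _ b (b - 1) (by lia)⟩

lemma IsTop.precomp {b : ℤ} {Z N : A} {K : B} {u : (dg b).obj Z ⟶ K} (hu : IsTop u)
    (π : N ⟶ Z) [Epi π] : IsTop ((dg b).map π ≫ u) := by
  intro V h hh
  refine hu V h ?_
  obtain ⟨f, hf⟩ := (dg b).map_surjective (u ≫ h)
  have : π ≫ f = 0 := (dg b).map_injective (by
    rw [Functor.map_comp, hf, Functor.map_zero, ← Category.assoc]; exact hh)
  have : f = 0 := (cancel_epi π).1 (this.trans comp_zero.symm)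
  rw [← hf, this, Functor.map_zero]

variable (A) in
/-- enough negative objects -/
def EnoughNeg : Prop :=
  ∀ X : A, ∃ (N : A) (p : N ⟶ X), Epi p ∧ ∀ f : X ⟶ N, f = 0

/-- Replace a top term by a negative one. -/
lemma exists_neg_top (hneg : EnoughNeg A) {b : ℤ} {Z : A} {K : B} {u : (dg b).obj Z ⟶ K}
    (hu : IsTop u) (W : A) :
    ∃ (N : A) (π : N ⟶ Z), Epi π ∧ IsTop ((dg b).map π ≫ u) ∧
      (∀ f : W ⟶ N, f = 0) ∧ ∀ h : K ⟶ (dg b).obj N, h = 0 := by
  obtain ⟨N, p, hp, hN⟩ := hneg (Z ⊞ W)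
  refine ⟨N, p ≫ biprod.fst, inferInstance, hu.precomp _, fun f => ?_, fun h => hu N h ?_⟩
  · have := congr_arg (biprod.inr ≫ ·) (hN (biprod.snd ≫ f))
    simpa using this
  · obtain ⟨f, hf⟩ := (dg b).map_surjective (u ≫ h)
    have : f = 0 := by
      have := congr_arg (biprod.inl ≫ ·) (hN (biprod.fst ≫ f))
      simpa using this
    rw [← hf, this, Functor.map_zero]

/-- A presentation by a top term. -/
lemma exists_cone {b : ℤ} {Z : A} {K : B} {u : (dg b).obj Z ⟶ K} (hu : IsTop u)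
    (a : ℤ) (n : ℕ) (hab : a ≤ b) (hn : b ≤ a + (n + 1 : ℕ)) [(tb A).IsGE K a] [(tb A).IsLE K b] :
    ∃ (C : B) (q : K ⟶ C) (r : C ⟶ ((dg b).obj Z)⟦(1 : ℤ)⟧),
      Triangle.mk u q r ∈ distTriang B ∧ Amp n C ∧ (tb A).IsLE C (b - 1) ∧
        (tb A).IsGE C (min a (b - 1)) := by
  obtain ⟨C, q, r, hT⟩ := distinguished_cocone_triangle u
  have h₁ := hu.cone_isLE hT
  have h₂ : (tb A).IsGE C (min a (b - 1)) :=
    cone_isGE (a := a) u hT (min_le_left _ _) (by lia)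
  exact ⟨C, q, r, hT, ⟨_, _, min_le_right _ _, by lia, h₂, h₁⟩, h₁, h₂⟩

variable {D : Type u'} [Category.{v'} D] [Preadditive D] [HasZeroObject D] [HasShift D ℤ]
  [∀ n : ℤ, (shiftFunctor D n).Additive] [Pretriangulated D]
  {F F' : DerivedCategory.Bounded A ⥤ D} [F.CommShift ℤ] [F'.CommShift ℤ]
  [F.IsTriangulated] [F'.IsTriangulated]

variable (F F') in
/-- A natural family of comparisons on objects of amplitude `≤ n`. -/
structure Fam (n : ℕ) where
  φ : ∀ K : DerivedCategory.Bounded A, Amp n K → (F.obj K ≅ F'.obj K)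
  nat : ∀ (K L : DerivedCategory.Bounded A) (hK : Amp n K) (hL : Amp n L) (f : K ⟶ L),
    Comm F F' (φ K hK) (φ L hL) f

/-- a comparison compatible with all maps to objects of smaller amplitude -/
def Fam.Good {n : ℕ} (Φ : Fam F F' n) {K : DerivedCategory.Bounded A}
    (ψ : F.obj K ≅ F'.obj K) : Prop :=
  ∀ (C : DerivedCategory.Bounded A) (hC : Amp n C) (g : K ⟶ C), Comm F F' ψ (Φ.φ C hC) g

lemma Fam.good_φ {n : ℕ} (Φ : Fam F F' n) {K : B} (hK : Amp n K) : Φ.Good (Φ.φ K hK) :=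
  fun C hC g => Φ.nat K C hK hC g

variable (α : DEquiv.singleB A ⋙ F ≅ DEquiv.singleB A ⋙ F') [F.Full] [F.Faithful]

include α in
lemma comm_of_comp {K L C : B} {c : ℤ} {N : A} {p : (dg c).obj N ⟶ L} {q : L ⟶ C}
    {r : C ⟶ ((dg c).obj N)⟦(1 : ℤ)⟧} (hT : Triangle.mk p q r ∈ distTriang B)
    (h0 : ∀ h : K ⟶ (dg c).obj N, h = 0)
    {ψK : F.obj K ≅ F'.obj K} {ψL : F.obj L ≅ F'.obj L} {ψC : F.obj C ≅ F'.obj C}
    (f : K ⟶ L) (hq : Comm F F' ψL ψC q) (hfq : Comm F F' ψK ψC (f ≫ q)) :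
    Comm F F' ψK ψL f := by
  unfold Comm at *
  rw [← sub_eq_zero]
  obtain ⟨k, hk⟩ := Triangle.coyoneda_exact₂ _ (F'.map_distinguished _ hT)
    (F.map f ≫ ψL.hom - ψK.hom ≫ F'.map f) (by
      change (_ - _) ≫ F'.map q = 0
      rw [Preadditive.sub_comp, sub_eq_zero, Category.assoc, ← hq, ← F.map_comp_assoc, hfq,
        Category.assoc, F'.map_comp])
  have hk0 : k = 0 := by
    obtain ⟨g, hg⟩ := F.map_surjective (k ≫ (αd α c N).inv)
    rw [h0 g, Functor.map_zero] at hg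
    exact (cancel_mono (αd α c N).inv).1 (hg.symm.trans zero_comp.symm)
  rw [hk, hk0]
  exact zero_comp

include α in
lemma exists_fill' {n : ℕ} (Φ : Fam F F' n) {b : ℤ} {N : A} {K C : B} {p : (dg b).obj N ⟶ K}
    {q : K ⟶ C} {r : C ⟶ ((dg b).obj N)⟦(1 : ℤ)⟧} (hT : Triangle.mk p q r ∈ distTriang B)
    (hC : Amp n C) : ∃ ψ : F.obj K ≅ F'.obj K, Comm F F' ψ (Φ.φ C hC) q := by
  let φ₁ := Φ.φ _ (amp_dg_shift n b N)
  let a : F.obj ((dg b).obj N) ≅ F'.obj ((dg b).obj N) :=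
    (shiftFunctor D (1 : ℤ)).preimageIso (((F.commShiftIso (1 : ℤ)).app _).symm ≪≫ φ₁ ≪≫
      (F'.commShiftIso (1 : ℤ)).app _)
  have ha : sh (1 : ℤ) a = φ₁ := by
    ext
    simp [sh_hom, a, Functor.preimageIso]
  obtain ⟨ψ, -, h⟩ := exists_fill hT a (Φ.φ C hC) (ha ▸ Φ.nat C _ hC _ r)
  exact ⟨ψ, h⟩

include α in
lemma exists_good (hneg : EnoughNeg A) {n : ℕ} (Φ : Fam F F' n) (K : B) (hK : Amp (n + 1) K) :
    ∃ ψ : F.obj K ≅ F'.obj K, Φ.Good ψ := by
  obtain ⟨a, b, hab, hb, ha', hb'⟩ := hK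
  obtain ⟨W, u, hu⟩ := exists_top K b
  have hu : IsTop u := hu
  obtain ⟨N₁, π₁, -, hp₁, -, hK₁⟩ := exists_neg_top hneg hu W
  obtain ⟨C₁, q₁, r₁, hT₁, hC₁, -, -⟩ := exists_cone hp₁ a n hab hb
  obtain ⟨ψ, hψ⟩ := exists_fill' α Φ hT₁ hC₁
  refine ⟨ψ, fun C hC g => ?_⟩
  obtain ⟨a', c, hac, hca, hC₁', hC₂'⟩ := hC
  obtain ⟨m, hm⟩ : ∃ m : ℕ, c ≤ b - 1 + m := ⟨(c - (b - 1)).toNat, by lia⟩
  induction m generalizing C a' c with
  | zero =>
    have : (tb A).IsLE C (b - 1) := (tb A).isLE_of_le C c (b - 1) (by lia)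
    obtain ⟨N', π', _, hkill⟩ := exists_epi_efface C b N₁ (((dg b).map π₁ ≫ u) ≫ g)
    obtain ⟨N₂, π₂, _, hp₂, -, -⟩ := exists_neg_top hneg (hp₁.precomp π') W
    obtain ⟨C₂, q₂, r₂, hT₂, hC₂, -, -⟩ := exists_cone hp₂ a n hab hb
    obtain ⟨ψ₂, hψ₂⟩ := exists_fill' α Φ hT₂ hC₂
    obtain ⟨t, rfl⟩ := (Triangle.mk _ q₂ r₂).yoneda_exact₂ hT₂ q₁ (by
      change ((dg b).map π₂ ≫ (dg b).map π' ≫ (dg b).map π₁ ≫ u) ≫ q₁ = 0
      simp only [Category.assoc]
      have : ((dg b).map π₁ ≫ u) ≫ q₁ = 0 := comp_distTriang_mor_zero₁₂ _ hT₁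
      rw [Category.assoc] at this
      rw [this, comp_zero, comp_zero])
    have hψψ : Comm F F' ψ₂ ψ (𝟙 K) := by
      refine comm_of_comp α hT₁ hK₁ (𝟙 K) hψ ?_
      rw [Category.id_comp]
      exact hψ₂.comp (Φ.nat _ _ hC₂ hC₁ t)
    have hψeq : ψ = ψ₂ := by
      ext
      simpa [Comm] using hψψ
    subst hψeq
    obtain ⟨g', rfl⟩ := (Triangle.mk _ q₂ r₂).yoneda_exact₂ hT₂ g (by
      change ((dg b).map π₂ ≫ (dg b).map π' ≫ (dg b).map π₁ ≫ u) ≫ g = 0
      simp only [Category.assoc] at hkill ⊢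
      rw [hkill, comp_zero])
    exact hψ₂.comp (Φ.nat _ _ hC₂ _ g')
  | succ m ih =>
    by_cases hcm : c ≤ b - 1 + m
    · exact ih C g a' c hac hca hC₁' hC₂' hcm
    · obtain ⟨Z, v, hv⟩ := exists_top C c
      have hv : IsTop v := hv
      obtain ⟨N, π, _, hp, hWN, -⟩ := exists_neg_top hneg hv W
      obtain ⟨C', q, r, hT, hC', hC'le, hC'ge⟩ := exists_cone hp a' n hac (by lia)
      refine comm_of_comp α hT (fun h => ?_) g
        (Φ.nat _ _ ⟨a', c, hac, hca, hC₁', hC₂'⟩ hC' q) ?_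
      · rcases (show b < c ∨ b = c by lia) with hbc | rfl
        · exact (tb A).zero_of_isLE_of_isGE h b c hbc hb' inferInstance
        · refine hu N h ?_
          obtain ⟨f, hf⟩ := (dg b).map_surjective (u ≫ h)
          rw [← hf, hWN f, Functor.map_zero]
      · exact ih C' (g ≫ q) (min a' (c - 1)) (c - 1) (min_le_right _ _) (by lia) hC'ge hC'le
          (by lia)

include α in
lemma comm_good (hneg : EnoughNeg A) {n : ℕ} (Φ : Fam F F' n) {K L : B} (hK : Amp (n + 1) K)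
    (hL : Amp (n + 1) L) (ψK : F.obj K ≅ F'.obj K) (ψL : F.obj L ≅ F'.obj L) (hψK : Φ.Good ψK)
    (hψL : Φ.Good ψL) (f : K ⟶ L) : Comm F F' ψK ψL f := by
  obtain ⟨a, b, hab, hba, ha', hb'⟩ := hK
  obtain ⟨a₁, c, hac, hca, hc₁, hc₂⟩ := hL
  obtain ⟨m, hm⟩ : ∃ m : ℕ, b ≤ c + m := ⟨(b - c).toNat, by lia⟩
  induction m generalizing K a b with
  | zero =>
    obtain ⟨W, u, hu⟩ := exists_top K b
    obtain ⟨Z, v, hv⟩ := exists_top L c
    have hv : IsTop v := hv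
    obtain ⟨N, π, _, hp, hWN, -⟩ := exists_neg_top hneg hv W
    obtain ⟨C', q, r, hT, hC', -, -⟩ := exists_cone hp a₁ n hac hca
    refine comm_of_comp α hT (fun h => ?_) f (hψL C' hC' q) (hψK C' hC' (f ≫ q))
    rcases (show b < c ∨ b = c by lia) with hbc | rfl
    · exact (tb A).zero_of_isLE_of_isGE h b c hbc hb' inferInstance
    · refine hu N h ?_
      obtain ⟨g, hg⟩ := (dg b).map_surjective (u ≫ h)
      rw [← hg, hWN g, Functor.map_zero]
  | succ m ih =>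
    by_cases hbm : b ≤ c + m
    · exact ih ψK hψK f a b hab hba ha' hb' hbm
    · obtain ⟨Z, u, hu⟩ := exists_top K b
      have hu : IsTop u := hu
      have : (tb A).IsLE L (b - 1) := (tb A).isLE_of_le L c (b - 1) (by lia)
      obtain ⟨N, π, _, hkill⟩ := exists_epi_efface L b Z (u ≫ f)
      obtain ⟨C, q, r, hT, hC, hCle, hCge⟩ := exists_cone (hu.precomp π) a n hab hba
      obtain ⟨f', rfl⟩ := (Triangle.mk _ q r).yoneda_exact₂ hT f (by
        change ((dg b).map π ≫ u) ≫ f = 0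
        rw [Category.assoc, hkill])
      exact (hψK C hC q).comp (ih (Φ.φ C hC) (Φ.good_φ hC) f' (min a (b - 1)) (b - 1)
        (min_le_right _ _) (by lia) hCge hCle (by lia))

include α in
lemma nonempty_fam_zero : Nonempty (Fam F F' 0) := by
  have h : ∀ K : B, Amp 0 K → ∃ (b : ℤ) (X : A), Nonempty (K ≅ (dg b).obj X) := by
    rintro K ⟨a, b, hab, hba, ha, hb⟩
    obtain rfl : a = b := by lia
    obtain ⟨X, hX⟩ := exists_iso_dg K a
    exact ⟨a, X, hX⟩
  choose deg obj e using h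
  refine ⟨⟨fun K hK => F.mapIso (e K hK).some ≪≫ αd α (deg K hK) (obj K hK) ≪≫
    (F'.mapIso (e K hK).some).symm, fun K L hK hL f => ?_⟩⟩
  have h := comm_dg α negVanish_of_fullyFaithful (deg K hK) (deg L hL) (obj K hK) (obj L hL)
    ((e K hK).some.inv ≫ f ≫ (e L hL).some.hom)
  unfold Comm at h ⊢
  simp only [Iso.trans_hom, Iso.symm_hom, Functor.mapIso_hom, Functor.mapIso_inv]
  rw [← cancel_epi (F.map (e K hK).some.inv), ← cancel_mono (F'.map (e L hL).some.hom)]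
  simp only [F.map_comp, F'.map_comp, Category.assoc] at h
  simp only [Category.assoc, ← F'.map_comp, Iso.inv_hom_id, F'.map_id, Category.comp_id]
  rw [h, ← F.map_comp_assoc, Iso.inv_hom_id, F.map_id, Category.id_comp]
  simp only [F'.map_comp]

include α in
theorem nonempty_natIso (hneg : EnoughNeg A) : Nonempty (F ≅ F') := by
  obtain ⟨Φ₀⟩ := nonempty_fam_zero α
  let next : ∀ n, Fam F F' n → Fam F F' (n + 1) := fun n Φ =>
    ⟨fun K hK => (exists_good α hneg Φ K hK).choose, fun K L hK hL f =>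
      comm_good α hneg Φ hK hL _ _ (exists_good α hneg Φ K hK).choose_spec
        (exists_good α hneg Φ L hL).choose_spec f⟩
  let Φ : ∀ n, Fam F F' n := fun n => Nat.rec Φ₀ next n
  have step : ∀ n K (hK : Amp n K),
      (Φ n).φ K hK = (Φ (n + 1)).φ K (hK.mono n.le_succ) := by
    intro n K hK
    have h := comm_good α hneg (Φ n) (hK.mono n.le_succ) (hK.mono n.le_succ)
      ((Φ (n + 1)).φ K (hK.mono n.le_succ)) ((Φ n).φ K hK)
      (exists_good α hneg (Φ n) K (hK.mono n.le_succ)).choose_spec ((Φ n).good_φ hK) (𝟙 K)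
    ext
    simpa [Comm] using h
  have compat : ∀ n m (hnm : n ≤ m) K (hK : Amp n K),
      (Φ n).φ K hK = (Φ m).φ K (hK.mono hnm) := by
    intro n m hnm
    induction m, hnm using Nat.le_induction with
    | base => intro K hK; rfl
    | succ m hnm ih => intro K hK; rw [ih K hK, step m K (hK.mono hnm)]
  choose N hN using fun K : B => exists_amp K
  refine ⟨NatIso.ofComponents (fun K => (Φ (N K)).φ K (hN K)) (fun {K L} f => ?_)⟩
  rw [compat _ _ (le_max_left (N K) (N L)) K, compat _ _ (le_max_right (N K) (N L)) L]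
  exact (Φ (max (N K) (N L))).nat K L _ _ f

end Groth.Agent.SibLib
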