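import Groth.Prelude.Def_W4stkfunctorsequivSib
import Mathlib.Algebra.Homology.DerivedCategory.SingleTriangle
import Mathlib.Algebra.Homology.DerivedCategory.FullyFaithful
import Mathlib.CategoryTheory.Triangulated.TStructure.Induced

/-! Devissage in the bounded derived category of an abelian category. -/

set_option backward.isDefEq.respectTransparency false

universe w v u

open CategoryTheory CategoryTheory.Limits CategoryTheory.Pretriangulated CategoryTheory.Triangulated
open DerivedCategory DerivedCategory.TStructure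

namespace Groth.Agent.SibLib

variable {A : Type u} [Category.{v} A] [Abelian A] [HasDerivedCategory.{w} A]

local notation "B" => DerivedCategory.Bounded A

variable (A) in
/-- the t-structure on the bounded derived category -/
noncomputable abbrev tb : TStructure (DerivedCategory.Bounded A) :=
  (DerivedCategory.TStructure.t (C := A)).onBounded

/-- an object in cohomological degree `n` -/
noncomputable abbrev dg (n : ℤ) : A ⥤ DerivedCategory.Bounded A :=
  DEquiv.singleB A ⋙ shiftFunctor (DerivedCategory.Bounded A) (-n)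

instance : (DEquiv.singleB A).Full := by dsimp [DEquiv.singleB]; infer_instance
instance : (DEquiv.singleB A).Faithful := by dsimp [DEquiv.singleB]; infer_instance
instance : (DEquiv.singleB A).Additive where
  map_add := by
    intro X Y f g
    apply ObjectProperty.hom_ext
    exact (DerivedCategory.singleFunctor A 0).map_add

noncomputable def singleBιIso :
    DEquiv.singleB A ⋙ DerivedCategory.Bounded.ι ≅ DerivedCategory.singleFunctor A 0 :=
  ObjectProperty.liftCompιIso _ _ _

/-- `dg n` is the usual single functor. -/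
noncomputable def dgιIso (n : ℤ) :
    dg (A := A) n ⋙ DerivedCategory.Bounded.ι ≅ DerivedCategory.singleFunctor A n :=
  Functor.associator _ _ _ ≪≫
    Functor.isoWhiskerLeft _ ((DerivedCategory.Bounded.ι (C := A)).commShiftIso (-n)) ≪≫
    (Functor.associator _ _ _).symm ≪≫ Functor.isoWhiskerRight singleBιIso _ ≪≫
    (DerivedCategory.singleFunctors A).shiftIso (-n) n 0 (by lia)

lemma isLE_iff' (K : B) (n : ℤ) : (tb A).IsLE K n ↔ t.IsLE K.obj n :=
  ObjectProperty.tStructure_isLE_iff _ _ K n

lemma isGE_iff' (K : B) (n : ℤ) : (tb A).IsGE K n ↔ t.IsGE K.obj n :=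
  ObjectProperty.tStructure_isGE_iff _ _ K n

instance (n : ℤ) (X : A) : (tb A).IsLE ((dg n).obj X) n := by
  rw [isLE_iff']
  exact t.isLE_of_iso ((dgιIso n).app X).symm n

instance (n : ℤ) (X : A) : (tb A).IsGE ((dg n).obj X) n := by
  rw [isGE_iff']
  exact t.isGE_of_iso ((dgιIso n).app X).symm n

instance (X : A) : (tb A).IsLE ((DEquiv.singleB A).obj X) 0 :=
  (isLE_iff' _ 0).2 (inferInstanceAs (((DerivedCategory.singleFunctor A 0).obj X).IsLE 0))

instance (X : A) : (tb A).IsGE ((DEquiv.singleB A).obj X) 0 :=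
  (isGE_iff' _ 0).2 (inferInstanceAs (((DerivedCategory.singleFunctor A 0).obj X).IsGE 0))

lemma exists_bounds (K : B) : ∃ a b : ℤ, a ≤ b ∧ (tb A).IsGE K a ∧ (tb A).IsLE K b := by
  obtain ⟨⟨a, ha⟩, ⟨b, hb⟩⟩ := K.property
  have h₁ : (tb A).IsGE K a := (isGE_iff' K a).2 ha
  have h₂ : (tb A).IsLE K b := (isLE_iff' K b).2 hb
  exact ⟨min a b, b, min_le_right _ _, (tb A).isGE_of_ge K _ a (min_le_left _ _), h₂⟩

lemma exists_iso_dg (K : B) (n : ℤ) [(tb A).IsGE K n] [(tb A).IsLE K n] :
    ∃ X : A, Nonempty (K ≅ (dg n).obj X) := by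
  have := (isGE_iff' K n).1 inferInstance
  have := (isLE_iff' K n).1 inferInstance
  obtain ⟨X, ⟨e⟩⟩ := DerivedCategory.exists_iso_singleFunctor_obj_of_isGE_of_isLE K.obj n
  exact ⟨X, ⟨ObjectProperty.isoMk _ (e ≪≫ ((dgιIso n).app X).symm)⟩⟩

lemma isLE_shift_one (K : B) (n m : ℤ) (h : m + 1 = n) [(tb A).IsLE K n] :
    (tb A).IsLE (K⟦(1:ℤ)⟧) m := (tb A).isLE_shift K n 1 m (by lia)

lemma isGE_shift_one (K : B) (n m : ℤ) (h : m + 1 = n) [(tb A).IsGE K n] :
    (tb A).IsGE (K⟦(1:ℤ)⟧) m := (tb A).isGE_shift K n 1 m (by lia)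

lemma isLE_third (T : Triangle B) (hT : T ∈ distTriang B) (n : ℤ)
    (h₁ : (tb A).IsLE T.obj₁ (n + 1)) (h₂ : (tb A).IsLE T.obj₂ n) : (tb A).IsLE T.obj₃ n :=
  (tb A).isLE₂ _ (rot_of_distTriang _ hT) n h₂ (isLE_shift_one T.obj₁ (n + 1) n rfl)

lemma isGE_third (T : Triangle B) (hT : T ∈ distTriang B) (n : ℤ)
    (h₁ : (tb A).IsGE T.obj₁ (n + 1)) (h₂ : (tb A).IsGE T.obj₂ n) : (tb A).IsGE T.obj₃ n :=
  (tb A).isGE₂ _ (rot_of_distTriang _ hT) n h₂ (isGE_shift_one T.obj₁ (n + 1) n rfl)

/-- If all maps to degree `b` vanish then the object is `≤ b - 1`. -/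
lemma isLE_pred (K : B) (b : ℤ) [(tb A).IsLE K b]
    (h : ∀ (V : A) (f : K ⟶ (dg b).obj V), f = 0) : (tb A).IsLE K (b - 1) := by
  obtain ⟨X, Y, hX, hY, f, g, k, hT⟩ := (tb A).exists_triangle K (b - 1) b (by lia)
  have : (tb A).IsLE X (b - 1) := ⟨hX⟩
  have : (tb A).IsGE Y b := ⟨hY⟩
  have hX' : (tb A).IsLE X (b + 1) := (tb A).isLE_of_le X (b - 1) (b + 1) (by lia)
  have : (tb A).IsLE Y b := isLE_third _ hT b hX' (by assumption)
  obtain ⟨V, ⟨e⟩⟩ := exists_iso_dg Y b
  have hg : g = 0 := by rw [← cancel_mono e.hom, zero_comp]; exact h V _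
  obtain ⟨c, hc⟩ := (Triangle.mk f g k).yoneda_exact₃ hT (𝟙 Y) (by simp [hg])
  have hc0 : c = 0 := (tb A).zero_of_isLE_of_isGE c (b - 2) b (by lia)
    (isLE_shift_one X (b - 1) (b - 2) (by lia)) (by assumption)
  have hY0 : IsZero Y := by
    rw [IsZero.iff_id_eq_zero, hc, hc0, comp_zero]
  have : IsIso f := (Triangle.isZero₃_iff_isIso₁ _ hT).1 hY0
  exact (tb A).isLE_of_iso (asIso f) (b - 1)

/-- Every object `≤ b` has a "top term" in degree `b`. -/
lemma exists_top (K : B) (b : ℤ) [(tb A).IsLE K b] :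
    ∃ (Z : A) (u : (dg b).obj Z ⟶ K),
      ∀ (V : A) (h : K ⟶ (dg b).obj V), u ≫ h = 0 → h = 0 := by
  have := (isLE_iff' K b).1 inferInstance
  obtain ⟨L, hL, ⟨e⟩⟩ := DerivedCategory.exists_iso_Q_obj_of_isLE K.obj b
  let φ : (CochainComplex.singleFunctor A b).obj (L.X b) ⟶ L :=
    HomologicalComplex.mkHomFromSingle (𝟙 _) (fun j hj => by
      have hj' : b + 1 = j := hj
      exact (L.isZero_of_isStrictlyLE b j (by lia)).eq_of_tgt _ _)
  have : IsIso (φ.f b) := by
    simp only [φ, HomologicalComplex.mkHomFromSingle_f, Category.comp_id]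
    infer_instance
  have hmono : Mono φ := HomologicalComplex.mono_of_mono_f _ fun i => by
    by_cases hi : i = b
    · subst hi; infer_instance
    · exact ⟨fun g h _ => (HomologicalComplex.isZero_single_obj_X _ _ _ _ hi).eq_of_tgt g h⟩
  let S := ShortComplex.mk φ (cokernel.π φ) (cokernel.condition φ)
  have hS : S.ShortExact :=
    { exact := ShortComplex.exact_cokernel φ
      mono_f := hmono
      epi_g := inferInstanceAs (Epi (cokernel.π φ)) }
  have hC : (cokernel φ).IsStrictlyLE (b - 1) := by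
    rw [CochainComplex.isStrictlyLE_iff]
    intro i hi
    by_cases hib : i = b
    · subst hib
      have : Epi ((cokernel.π φ).f i) := inferInstance
      have h0 : (cokernel.π φ).f i = 0 := by
        rw [← cancel_epi (φ.f i), ← HomologicalComplex.comp_f, cokernel.condition,
          HomologicalComplex.zero_f, comp_zero]
      exact IsZero.of_epi_eq_zero _ h0
    · exact IsZero.of_epi ((cokernel.π φ).f i) (L.isZero_of_isStrictlyLE b i (by lia))
  let u' : ((dg b).obj (L.X b)).obj ⟶ K.obj :=
    ((dgιIso b).app (L.X b)).hom ≫ ((singleFunctorIsoCompQ A b).app (L.X b)).hom ≫ Q.map φ ≫ e.inv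
  refine ⟨L.X b, ObjectProperty.homMk u', fun V h hh => ObjectProperty.hom_ext _ ?_⟩
  have hh' : u' ≫ h.hom = 0 := congr_arg InducedCategory.Hom.hom hh
  simp only [u', Category.assoc, Iso.cancel_iso_hom_left, Preadditive.IsIso.comp_left_eq_zero] at hh'
  have hh'' : Q.map φ ≫ e.inv ≫ h.hom = 0 := by simpa using hh'
  obtain ⟨c, hc⟩ := Triangle.yoneda_exact₂ _ (triangleOfSES_distinguished hS) (e.inv ≫ h.hom) hh''
  have hc0 : c = 0 := t.zero_of_isLE_of_isGE c (b - 1) b (by lia)
    (inferInstanceAs ((Q.obj (cokernel φ)).IsLE (b - 1)))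
    ((isGE_iff' _ b).1 inferInstance)
  rw [hc0, comp_zero] at hc
  change h.hom = 0
  rw [← cancel_epi e.inv, hc, comp_zero]

/-- Effacement: a map from degree `b` to a complex `≤ b - 1` is killed by an epimorphism. -/
lemma exists_epi_efface (C : B) (b : ℤ) [(tb A).IsLE C (b - 1)] (Z : A)
    (g : (dg b).obj Z ⟶ C) :
    ∃ (N : A) (π : N ⟶ Z), Epi π ∧ (dg b).map π ≫ g = 0 := by
  have := (isLE_iff' C (b - 1)).1 inferInstance
  obtain ⟨L, hL, ⟨e⟩⟩ := DerivedCategory.exists_iso_Q_obj_of_isLE C.obj (b - 1)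
  let S₀ := (CochainComplex.singleFunctor A b).obj Z
  let eZ : ((dg b).obj Z).obj ≅ Q.obj S₀ :=
    (dgιIso b).app Z ≪≫ (singleFunctorIsoCompQ A b).app Z
  obtain ⟨X', hX', s, hs, g', hg⟩ :=
    DerivedCategory.right_fac_of_isStrictlyLE (eZ.inv ≫ g.hom ≫ e.hom) b
  -- the top term of `X'`
  let φ : (CochainComplex.singleFunctor A b).obj (X'.X b) ⟶ X' :=
    HomologicalComplex.mkHomFromSingle (𝟙 _) (fun j hj => by
      have hj' : b + 1 = j := hj
      exact (X'.isZero_of_isStrictlyLE b j (by lia)).eq_of_tgt _ _)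
  have hφg : φ ≫ g' = 0 :=
    HomologicalComplex.from_single_hom_ext ((L.isZero_of_isStrictlyLE (b - 1) b (by lia)).eq_of_tgt _ _)
  obtain ⟨π, hπ⟩ := (CochainComplex.singleFunctor A b).map_surjective (φ ≫ s)
  refine ⟨X'.X b, π, ?_, ObjectProperty.hom_ext _ ?_⟩
  · have hsurj : Epi ((φ ≫ s).f b) := by
      have : IsIso (φ.f b) := by
        simp only [φ, HomologicalComplex.mkHomFromSingle_f, Category.comp_id]
        infer_instance
      have : Epi (s.f b) := by
        apply Preadditive.epi_of_cancel_zero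
        intro W k hk
        have hd : S₀.d b (b + 1) = 0 :=
          (S₀.isZero_of_isStrictlyLE b (b + 1) (by lia)).eq_of_tgt _ _
        let K₁ : S₀ ⟶ (CochainComplex.singleFunctor A b).obj W :=
          HomologicalComplex.mkHomToSingle k (fun i hi => by
            have hi' : i + 1 = b := hi
            exact ((HomologicalComplex.isZero_single_obj_X _ _ _ _
              (by lia : i ≠ b)).eq_of_src _ _))
        have h1 : s ≫ K₁ = 0 := HomologicalComplex.to_single_hom_ext (by
          simp only [HomologicalComplex.comp_f, K₁, HomologicalComplex.mkHomToSingle_f,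
            HomologicalComplex.zero_f, zero_comp]
          rw [← Category.assoc, hk, zero_comp])
        have h2 : Q.map K₁ = 0 := by
          rw [← cancel_epi (Q.map s), ← Q.map_comp, h1, Q.map_zero, comp_zero]
        obtain ⟨k', hk'⟩ := (CochainComplex.singleFunctor A b).map_surjective K₁
        have h3 : (DerivedCategory.singleFunctor A b).map k' = 0 := by
          rw [← cancel_mono ((singleFunctorIsoCompQ A b).hom.app W),
            (singleFunctorIsoCompQ A b).hom.naturality k']
          simp only [Functor.comp_map, zero_comp]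
          erw [hk', h2, comp_zero]
        have h4 : k' = 0 := (DerivedCategory.singleFunctor A b).map_injective
          (by rw [h3, Functor.map_zero])
        rw [h4, Functor.map_zero] at hk'
        have := congr_arg (fun q => q.f b) hk'.symm
        simp only [K₁, HomologicalComplex.mkHomToSingle_f, HomologicalComplex.zero_f] at this
        rw [← cancel_mono (HomologicalComplex.singleObjXSelf (ComplexShape.up ℤ) b W).inv, zero_comp]
        exact this
      rw [HomologicalComplex.comp_f]
      infer_instance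
    rw [← hπ] at hsurj
    have h' : Epi ((HomologicalComplex.single A (ComplexShape.up ℤ) b).map π |>.f b) := hsurj
    rw [HomologicalComplex.single_map_f_self] at h'
    constructor
    intro W p q hpq
    have h'' := h'.left_cancellation
      ((HomologicalComplex.singleObjXSelf (ComplexShape.up ℤ) b Z).hom ≫ p)
      ((HomologicalComplex.singleObjXSelf (ComplexShape.up ℤ) b Z).hom ≫ q) (by simp [hpq])
    exact (cancel_epi _).1 h''
  · have hnat := (dgιIso b).hom.naturality π
    have hnat2 := (singleFunctorIsoCompQ A b).hom.naturality π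
    simp only [Functor.comp_map] at hnat hnat2
    have key : Q.map ((CochainComplex.singleFunctor A b).map π) ≫ eZ.inv ≫ g.hom ≫ e.hom = 0 := by
      rw [hg, hπ, Q.map_comp, Category.assoc, IsIso.hom_inv_id_assoc, ← Q.map_comp, hφg,
        Q.map_zero]
    change ((dg b).map π).hom ≫ g.hom = 0
    rw [← cancel_mono e.hom, zero_comp, Category.assoc]
    have : ((dg b).map π).hom ≫ eZ.hom = ((dgιIso b).app (X'.X b) ≪≫
        (singleFunctorIsoCompQ A b).app (X'.X b)).hom ≫
          Q.map ((CochainComplex.singleFunctor A b).map π) := by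
      simp only [eZ, Iso.trans_hom, Iso.app_hom, Category.assoc]
      erw [reassoc_of% hnat, hnat2]
    rw [← eZ.hom_inv_id_assoc (g.hom ≫ e.hom), ← Category.assoc, this, Category.assoc, key,
      comp_zero]

/-- Shifted short exact sequences: an epimorphism gives a triangle in the bounded category. -/
lemma exists_triangle_of_epi {N X : A} (π : N ⟶ X) [Epi π] :
    ∃ (δ : (DEquiv.singleB A).obj X ⟶ ((DEquiv.singleB A).obj (kernel π))⟦(1 : ℤ)⟧),
      Triangle.mk ((DEquiv.singleB A).map (kernel.ι π)) ((DEquiv.singleB A).map π) δ ∈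
        distTriang B := by
  let S := ShortComplex.mk (kernel.ι π) π (kernel.condition π)
  have hS : S.ShortExact :=
    { exact := ShortComplex.exact_kernel π
      mono_f := inferInstanceAs (Mono (kernel.ι π))
      epi_g := inferInstanceAs (Epi π) }
  let ι := DerivedCategory.Bounded.ι (C := A)
  let δ' : ι.obj ((DEquiv.singleB A).obj X) ⟶
      ι.obj (((DEquiv.singleB A).obj (kernel π))⟦(1 : ℤ)⟧) :=
    hS.singleδ ≫ (ι.commShiftIso (1 : ℤ)).inv.app ((DEquiv.singleB A).obj (kernel π))
  refine ⟨ι.preimage δ', ?_⟩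
  change ι.mapTriangle.obj _ ∈ distTriang (DerivedCategory A)
  refine isomorphic_distinguished _ hS.singleTriangle_distinguished _
    (Triangle.isoMk _ _ (Iso.refl _) (Iso.refl _) (Iso.refl _) ?_ ?_ ?_)
  · simp only [Iso.refl_hom, Category.comp_id, Category.id_comp]
    rfl
  · simp only [Iso.refl_hom, Category.comp_id, Category.id_comp]
    rfl
  · simp only [Iso.refl_hom, CategoryTheory.Functor.map_id, Category.comp_id, Category.id_comp]
    change ι.map (ι.preimage δ') ≫
      (ι.commShiftIso (1 : ℤ)).hom.app ((DEquiv.singleB A).obj (kernel π)) = hS.singleδ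
    rw [Functor.map_preimage]
    change (hS.singleδ ≫ (ι.commShiftIso (1 : ℤ)).inv.app ((DEquiv.singleB A).obj (kernel π))) ≫
      (ι.commShiftIso (1 : ℤ)).hom.app ((DEquiv.singleB A).obj (kernel π)) = hS.singleδ
    erw [Category.assoc, Iso.inv_hom_id_app, Category.comp_id]

end Groth.Agent.SibLib
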