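import Groth.Agent.SibLib.Basic

/-! Two exact functors agreeing on an abelian category: compatibility with extension classes. -/

set_option backward.isDefEq.respectTransparency false

universe w v u v' u'

open CategoryTheory CategoryTheory.Limits CategoryTheory.Pretriangulated CategoryTheory.Triangulated

namespace Groth.Agent.SibLib

variable {A : Type u} [Category.{v} A] [Abelian A] [HasDerivedCategory.{w} A]

local notation "B" => DerivedCategory.Bounded A

/-- Devissage along the standard t-structure. -/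
lemma devissage (P : DerivedCategory.Bounded A → Prop)
    (hiso : ∀ (K K' : B), (K ≅ K') → P K → P K')
    (hext : ∀ T ∈ distTriang B, P T.obj₁ → P T.obj₃ → P T.obj₂)
    (a b : ℤ) (hbase : ∀ (j : ℤ) (X : A), a ≤ j → j ≤ b → P ((dg j).obj X))
    (K : B) (hab : a ≤ b) [(tb A).IsGE K a] [(tb A).IsLE K b] : P K := by
  obtain ⟨n, hn⟩ := Int.eq_ofNat_of_zero_le (sub_nonneg.2 hab)
  induction n generalizing a b K with
  | zero =>
    obtain rfl : a = b := by lia
    obtain ⟨X, ⟨e⟩⟩ := exists_iso_dg K a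
    exact hiso _ _ e.symm (hbase a X le_rfl le_rfl)
  | succ n ih =>
    obtain ⟨X, Y, hX, hY, f, g, k, hT⟩ := (tb A).exists_triangle K (b - 1) b (by lia)
    have : (tb A).IsLE X (b - 1) := ⟨hX⟩
    have : (tb A).IsGE Y b := ⟨hY⟩
    have hX' : (tb A).IsLE X (b + 1) := (tb A).isLE_of_le X (b - 1) (b + 1) (by lia)
    have : (tb A).IsLE Y b := isLE_third _ hT b hX' (by assumption)
    have : (tb A).IsGE X a := by
      have hY' : (tb A).IsGE (Y⟦(-1 : ℤ)⟧) (b + 1) :=
        (tb A).isGE_shift Y b (-1) (b + 1) (by lia)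
      have : (tb A).IsGE (Y⟦(-1 : ℤ)⟧) a := (tb A).isGE_of_ge _ a (b + 1) (by lia)
      exact (tb A).isGE₂ _ (inv_rot_of_distTriang _ hT) a this (by assumption)
    refine hext _ hT ?_ ?_
    · exact ih a (b - 1) (fun j X h₁ h₂ => hbase j X h₁ (by lia)) X (by lia) (by lia)
    · obtain ⟨Z, ⟨e⟩⟩ := exists_iso_dg Y b
      exact hiso _ _ e.symm (hbase b Z hab le_rfl)

variable {D : Type u'} [Category.{v'} D] [Preadditive D] [HasZeroObject D] [HasShift D ℤ]
  [∀ n : ℤ, (shiftFunctor D n).Additive] [Pretriangulated D]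

section

variable (F F' : DerivedCategory.Bounded A ⥤ D) [F.CommShift ℤ] [F'.CommShift ℤ]

/-- `Comm a b f` : the square of `f` commutes. -/
def Comm {K L : B} (a : F.obj K ≅ F'.obj K) (b : F.obj L ≅ F'.obj L) (f : K ⟶ L) : Prop :=
  F.map f ≫ b.hom = a.hom ≫ F'.map f

variable {F F'}

lemma Comm.comp {K L M : B} {a : F.obj K ≅ F'.obj K} {b : F.obj L ≅ F'.obj L}
    {c : F.obj M ≅ F'.obj M} {f : K ⟶ L} {g : L ⟶ M} (hf : Comm F F' a b f)
    (hg : Comm F F' b c g) : Comm F F' a c (f ≫ g) := by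
  unfold Comm at *
  rw [F.map_comp, F'.map_comp, Category.assoc, hg, reassoc_of% hf]

lemma Comm.symm {K L : B} {a : F.obj K ≅ F'.obj K} {b : F.obj L ≅ F'.obj L}
    {e : K ≅ L} (h : Comm F F' a b e.hom) : Comm F F' b a e.inv := by
  unfold Comm at *
  rw [← cancel_epi (F.map e.hom), ← F.map_comp_assoc, e.hom_inv_id, F.map_id, Category.id_comp,
    reassoc_of% h, ← F'.map_comp, e.hom_inv_id, F'.map_id, Category.comp_id]

/-- transport of a comparison along a shift -/
noncomputable def sh (m : ℤ) {K : B} (a : F.obj K ≅ F'.obj K) :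
    F.obj (K⟦m⟧) ≅ F'.obj (K⟦m⟧) :=
  (F.commShiftIso m).app K ≪≫ (shiftFunctor D m).mapIso a ≪≫ ((F'.commShiftIso m).app K).symm

lemma sh_hom (m : ℤ) {K : B} (a : F.obj K ≅ F'.obj K) :
    (sh m a).hom = (F.commShiftIso m).hom.app K ≫ a.hom⟦m⟧' ≫ (F'.commShiftIso m).inv.app K :=
  rfl

lemma Comm.shift {K L : B} {a : F.obj K ≅ F'.obj K} {b : F.obj L ≅ F'.obj L} {f : K ⟶ L}
    (h : Comm F F' a b f) (m : ℤ) : Comm F F' (sh m a) (sh m b) (f⟦m⟧') := by
  unfold Comm at *
  rw [sh_hom, sh_hom]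
  simp only [Category.assoc]
  rw [F.commShiftIso_hom_naturality_assoc, ← Functor.map_comp_assoc, h, Functor.map_comp,
    Category.assoc, F'.commShiftIso_inv_naturality]

lemma comm_shiftAdd (m m' k : ℤ) (h : m + m' = k) {K : B} (a : F.obj K ≅ F'.obj K) :
    Comm F F' (sh k a) (sh m' (sh m a)) ((shiftFunctorAdd' B m m' k h).hom.app K) := by
  unfold Comm
  rw [sh_hom, sh_hom, sh_hom, F.commShiftIso_add' h, F'.commShiftIso_add' h]
  simp only [Functor.CommShift.isoAdd'_hom_app, Functor.CommShift.isoAdd'_inv_app,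
    Functor.map_comp, Category.assoc, Functor.comp_obj]
  have := (shiftFunctorAdd' D m m' k h).inv.naturality a.hom
  simp only [Functor.comp_map] at this
  erw [← reassoc_of% this]
  simp only [Iso.inv_hom_id_app_assoc, ← F'.map_comp, Iso.inv_hom_id_app, Functor.comp_obj]
  erw [F'.map_id, Category.comp_id]

lemma comm_shiftZero {K : B} (a : F.obj K ≅ F'.obj K) :
    Comm F F' (sh (0 : ℤ) a) a ((shiftFunctorZero B ℤ).hom.app K) := by
  unfold Comm
  rw [sh_hom, F.commShiftIso_zero, F'.commShiftIso_zero]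
  simp only [Functor.CommShift.isoZero_hom_app, Functor.CommShift.isoZero_inv_app,
    Category.assoc, Functor.comp_obj]
  have := (shiftFunctorZero D ℤ).inv.naturality a.hom
  simp only [Functor.id_map] at this
  erw [← reassoc_of% this]
  simp only [Iso.inv_hom_id_app_assoc, ← F'.map_comp, Iso.inv_hom_id_app, Functor.id_obj]
  erw [F'.map_id, Category.comp_id]

variable (α : DEquiv.singleB A ⋙ F ≅ DEquiv.singleB A ⋙ F')

/-- the comparison on the heart -/
noncomputable abbrev α₀ (X : A) :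
    F.obj ((DEquiv.singleB A).obj X) ≅ F'.obj ((DEquiv.singleB A).obj X) :=
  α.app X

/-- the comparison in degree `n` -/
noncomputable def αd (n : ℤ) (X : A) : F.obj ((dg n).obj X) ≅ F'.obj ((dg n).obj X) :=
  sh (K := (DEquiv.singleB A).obj X) (-n) (α₀ α X)

lemma comm_α {X Y : A} (f : X ⟶ Y) :
    Comm F F' (α₀ α X) (α₀ α Y) ((DEquiv.singleB A).map f) :=
  α.hom.naturality f

lemma comm_αd (n : ℤ) {X Y : A} (f : X ⟶ Y) :
    Comm F F' (αd α n X) (αd α n Y) ((dg n).map f) :=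
  (comm_α α f).shift (-n)

variable (F) in
/-- Negative extensions between images of objects of the heart vanish. -/
def NegVanish : Prop :=
  ∀ (X Y : A) (q : ℤ), q < 0 →
    ∀ f : F.obj ((DEquiv.singleB A).obj X) ⟶
      (shiftFunctor D q).obj (F.obj ((DEquiv.singleB A).obj Y)), f = 0

lemma negVanish_of_fullyFaithful [F.Full] [F.Faithful] : NegVanish (A := A) F := by
  intro X Y q hq f
  have key : ∀ g : (DEquiv.singleB A).obj X ⟶ ((DEquiv.singleB A).obj Y)⟦q⟧, g = 0 := by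
    intro g
    have hX : (tb A).IsLE ((DEquiv.singleB A).obj X) 0 := inferInstance
    have hY : (tb A).IsGE (((DEquiv.singleB A).obj Y)⟦q⟧) (-q) :=
      (tb A).isGE_shift _ 0 q (-q) (by lia)
    exact (tb A).zero_of_isLE_of_isGE g 0 (-q) (by lia) hX hY
  have := key (F.preimage (f ≫ (F.commShiftIso q).inv.app _))
  apply_fun F.map at this
  rw [Functor.map_preimage, Functor.map_zero] at this
  exact (cancel_mono ((F.commShiftIso q).inv.app _)).1 (this.trans zero_comp.symm)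

variable [F.IsTriangulated] [F'.IsTriangulated]

include α in
lemma hom_dg_zero (hNV : NegVanish (A := A) F) (j c : ℤ) (hjc : j < c) (X Y : A)
    (h : F.obj ((dg j).obj X) ⟶ F'.obj ((dg c).obj Y)) : h = 0 := by
  let e₁ := (F.commShiftIso (-j)).app ((DEquiv.singleB A).obj X)
  let e₂ : F'.obj ((dg c).obj Y) ≅ ((F.obj ((DEquiv.singleB A).obj Y))⟦j - c⟧)⟦-j⟧ :=
    (F'.commShiftIso (-c)).app ((DEquiv.singleB A).obj Y) ≪≫
      (shiftFunctor D (-c)).mapIso (α₀ α Y).symm ≪≫
      (shiftFunctorAdd' D (j - c) (-j) (-c) (by lia)).app _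
  obtain ⟨k, hk⟩ := (shiftFunctor D (-j)).map_surjective (e₁.inv ≫ h ≫ e₂.hom)
  rw [hNV X Y (j - c) (by lia) k, Functor.map_zero] at hk
  exact (cancel_mono e₂.hom).1 ((cancel_epi e₁.inv).1 (by rw [zero_comp, comp_zero, ← hk]))

include α in
lemma hom_zero (hNV : NegVanish (A := A) F) (C : B) (a b c : ℤ) (hbc : b < c)
    [(tb A).IsGE C a] [(tb A).IsLE C b] (Y : A)
    (h : F.obj C ⟶ F'.obj ((dg c).obj Y)) : h = 0 := by
  revert h
  have : (tb A).IsGE C (min a b) := (tb A).isGE_of_ge C (min a b) a (min_le_left _ _)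
  refine devissage (fun C => ∀ h : F.obj C ⟶ F'.obj ((dg c).obj Y), h = 0) ?_ ?_ (min a b) b
    (fun j X _ hj h => hom_dg_zero α hNV j c (by lia) X Y h) C (min_le_right _ _)
  · intro K K' e hK h
    rw [← cancel_epi (F.map e.hom), hK (F.map e.hom ≫ h), comp_zero]
  · intro T hT h₁ h₃ h
    obtain ⟨r, hr⟩ := Triangle.yoneda_exact₂ _ (F.map_distinguished T hT) h
      (h₁ (F.map T.mor₁ ≫ h))
    rw [hr]
    erw [h₃ r]
    rw [comp_zero]

/-- The comparison commutes with the extension class of an epimorphism. -/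
lemma comm_δ (hNV : NegVanish (A := A) F) {N X : A} (π : N ⟶ X) [Epi π]
    (δ : (DEquiv.singleB A).obj X ⟶ ((DEquiv.singleB A).obj (kernel π))⟦(1 : ℤ)⟧)
    (hT : Triangle.mk ((DEquiv.singleB A).map (kernel.ι π)) ((DEquiv.singleB A).map π) δ ∈
      distTriang B) :
    Comm F F' (α₀ α X) (sh (1 : ℤ) (α₀ α (kernel π))) δ := by
  obtain ⟨(h : F.obj ((DEquiv.singleB A).obj X) ⟶ F'.obj ((DEquiv.singleB A).obj X)), h₂, h₃⟩ :=
    complete_distinguished_triangle_morphism _ _
    (F.map_distinguished _ hT) (F'.map_distinguished _ hT)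
    (α₀ α (kernel π)).hom (α₀ α N).hom (comm_α α (kernel.ι π))
  have h₂' : F.map ((DEquiv.singleB A).map π) ≫ h =
      (α₀ α N).hom ≫ F'.map ((DEquiv.singleB A).map π) := h₂
  have h₃' : (F.map δ ≫ (F.commShiftIso (1 : ℤ)).hom.app _) ≫ (α₀ α (kernel π)).hom⟦(1 : ℤ)⟧' =
      h ≫ F'.map δ ≫ (F'.commShiftIso (1 : ℤ)).hom.app _ := h₃
  obtain rfl : h = (α₀ α X).hom := by
    rw [← sub_eq_zero]
    obtain ⟨r, hr⟩ := Triangle.yoneda_exact₃ _ (F.map_distinguished _ hT)
      (h - (α₀ α X).hom) (by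
        change F.map ((DEquiv.singleB A).map π) ≫ (h - (α₀ α X).hom) = 0
        rw [Preadditive.comp_sub, h₂', sub_eq_zero]
        exact Eq.symm (comm_α α π))
    have : (tb A).IsLE (((DEquiv.singleB A).obj (kernel π))⟦(1 : ℤ)⟧) (-1) :=
      (tb A).isLE_shift _ 0 1 (-1) (by lia)
    obtain ⟨a, b, -, ha, -⟩ := exists_bounds (((DEquiv.singleB A).obj (kernel π))⟦(1 : ℤ)⟧)
    let e₀ := (shiftFunctorZero' B (-(0 : ℤ)) neg_zero).app ((DEquiv.singleB A).obj X)
    have hz := hom_zero α hNV (((DEquiv.singleB A).obj (kernel π))⟦(1 : ℤ)⟧) a (-1) 0 (by lia) X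
      ((F.commShiftIso (1 : ℤ)).hom.app _ ≫ r ≫ F'.map e₀.inv)
    have hr0 : r = 0 := by
      rw [← cancel_mono (F'.map e₀.inv), zero_comp,
        ← cancel_epi ((F.commShiftIso (1 : ℤ)).hom.app _), comp_zero]
      exact hz
    rw [hr, hr0, comp_zero]
  unfold Comm
  rw [sh_hom]
  rw [Category.assoc] at h₃'
  rw [reassoc_of% h₃', Iso.hom_inv_id_app]
  erw [Category.comp_id]

/-- The comparison commutes with all extension classes. -/
lemma comm_ext (hNV : NegVanish (A := A) F) (q : ℕ) : ∀ (X Y : A)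
    (f : (DEquiv.singleB A).obj X ⟶ ((DEquiv.singleB A).obj Y)⟦(q : ℤ)⟧),
    Comm F F' (α₀ α X) (sh (q : ℤ) (α₀ α Y)) f := by
  induction q with
  | zero =>
    intro X Y f
    let e₀ := (shiftFunctorZero B ℤ).app ((DEquiv.singleB A).obj Y)
    obtain ⟨g, hg⟩ := (DEquiv.singleB A).map_surjective (f ≫ e₀.hom)
    have : f = (DEquiv.singleB A).map g ≫ e₀.inv := by rw [hg]; simp
    rw [this]
    exact (comm_α α g).comp (Comm.symm (e := e₀) (comm_shiftZero _))
  | succ q ih =>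
    intro X Y f
    let e₀ := (shiftFunctorZero' B (-(0 : ℤ)) neg_zero).app ((DEquiv.singleB A).obj X)
    have : (tb A).IsLE (((DEquiv.singleB A).obj Y)⟦((q + 1 : ℕ) : ℤ)⟧) ((0 : ℤ) - 1) := by
      have := (tb A).isLE_shift ((DEquiv.singleB A).obj Y) 0 ((q + 1 : ℕ) : ℤ)
        (-((q + 1 : ℕ) : ℤ)) (by lia)
      exact (tb A).isLE_of_le _ (-((q + 1 : ℕ) : ℤ)) _ (by lia)
    obtain ⟨N, π, hπ, hkill⟩ := exists_epi_efface _ 0 X (e₀.hom ≫ f)
    have hkill' : (DEquiv.singleB A).map π ≫ f = 0 := by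
      have hnat := (shiftFunctorZero' B (-(0 : ℤ)) neg_zero).hom.naturality
        ((DEquiv.singleB A).map π)
      rw [← cancel_epi ((shiftFunctorZero' B (-(0 : ℤ)) neg_zero).hom.app
        ((DEquiv.singleB A).obj N)), comp_zero]
      erw [← reassoc_of% hnat]
      exact hkill
    obtain ⟨δ, hT⟩ := exists_triangle_of_epi π
    obtain ⟨f', hf'⟩ := (Triangle.mk _ _ δ).yoneda_exact₃ hT f hkill'
    let e₁ := (shiftFunctorAdd' B (q : ℤ) 1 ((q + 1 : ℕ) : ℤ) (Int.natCast_succ q).symm).app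
      ((DEquiv.singleB A).obj Y)
    obtain ⟨g, hg⟩ := (shiftFunctor B (1 : ℤ)).map_surjective (f' ≫ e₁.hom)
    have : f = δ ≫ g⟦(1 : ℤ)⟧' ≫ e₁.inv := by rw [hg]; simp [hf']
    rw [this]
    exact (comm_δ α hNV π δ hT).comp (((ih _ _ g).shift 1).comp
      (Comm.symm (e := e₁) (comm_shiftAdd _ _ _ (Int.natCast_succ q).symm _)))

/-- The comparisons commute with all maps between shifted objects of the heart. -/
lemma comm_dg (hNV : NegVanish (A := A) F) (j c : ℤ) (X Y : A)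
    (f : (dg j).obj X ⟶ (dg c).obj Y) : Comm F F' (αd α j X) (αd α c Y) f := by
  by_cases hjc : j < c
  · rw [(tb A).zero_of_isLE_of_isGE f j c hjc inferInstance inferInstance]
    simp [Comm]
  · obtain ⟨q, hq⟩ := Int.eq_ofNat_of_zero_le (sub_nonneg.2 (not_lt.1 hjc))
    let e := (shiftFunctorAdd' B (q : ℤ) (-j) (-c) (by lia)).app ((DEquiv.singleB A).obj Y)
    obtain ⟨g, hg⟩ := (shiftFunctor B (-j)).map_surjective (f ≫ e.hom)
    have : f = g⟦-j⟧' ≫ e.inv := by rw [hg]; simp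
    rw [this]
    exact ((comm_ext α hNV q X Y g).shift (-j)).comp
      (Comm.symm (e := e) (comm_shiftAdd _ _ _ (by lia) _))

end

end Groth.Agent.SibLib
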